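import Groth.Agent.Lib.DimOne18.Basic
import Mathlib.AlgebraicGeometry.Morphisms.Affine

/-!
# Quasi-compact opens of affine schemes of dimension at most one
-/

universe u

open CategoryTheory AlgebraicGeometry TopologicalSpace

namespace Groth.Agent.DimOne18

open IsLocalRing in
theorem exists_radical_eq_span {A : Type u} [CommRing A] [IsLocalRing A] [IsNoetherianRing A]
    (hdim : ringKrullDim A ≤ 1) (J : Ideal A) : ∃ g, (Ideal.span {g}).radical = J.radical := by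
  classical
  by_cases hJ : J = ⊤
  · exact ⟨1, by rw [Ideal.span_singleton_one, hJ]⟩
  have hfin := minimalPrimes.finite_of_isNoetherianRing A
  let M1 := hfin.toFinset.filter fun p => J ≤ p
  let M2 := hfin.toFinset.filter fun p => ¬ J ≤ p
  let K : Ideal A := M1.inf id ⊓ maximalIdeal A
  obtain ⟨g, hgK, hg⟩ : ∃ g ∈ K, ∀ p ∈ M2, g ∉ p := by
    by_contra! h
    have hsub : (K : Set A) ⊆ ⋃ p ∈ (M2 : Set (Ideal A)), (p : Set A) := fun g hg => by
      obtain ⟨p, hp, hgp⟩ := h g hg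
      exact Set.mem_biUnion (Finset.mem_coe.2 hp) hgp
    obtain ⟨p, hp, hle⟩ := (Ideal.subset_union_prime ⊥ ⊥
      (fun p hp _ _ => (hfin.mem_toFinset.1 (Finset.mem_filter.1 hp).1).1.1)).1 hsub
    obtain ⟨hpmin, hpJ⟩ := Finset.mem_filter.1 hp
    rw [hfin.mem_toFinset] at hpmin
    rcases (Ideal.IsPrime.inf_le hpmin.1.1).1 hle with h1 | h1
    · obtain ⟨q, hq, hqp⟩ := (Ideal.IsPrime.inf_le' hpmin.1.1).1 h1
      obtain ⟨hqmin, hqJ⟩ := Finset.mem_filter.1 hq
      rw [hfin.mem_toFinset] at hqmin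
      exact hpJ (hqJ.trans hqp)
    · exact hpJ ((le_maximalIdeal hJ).trans h1)
  refine ⟨g, ?_⟩
  rw [Ideal.radical_eq_sInf, Ideal.radical_eq_sInf]
  congr 1
  ext P
  refine and_congr_left fun hP => ?_
  have := hP
  rw [Ideal.span_singleton_le_iff_mem]
  rcases prime_cases hdim P with hPm | hPm
  · refine ⟨fun hgP => ?_, fun hJP => ?_⟩
    · by_contra hc
      exact hg P (Finset.mem_filter.2 ⟨hfin.mem_toFinset.2 hPm, hc⟩) hgP
    · exact (Finset.inf_le (f := id) (Finset.mem_filter.2 ⟨hfin.mem_toFinset.2 hPm, hJP⟩)) hgK.1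
  · subst hPm
    exact ⟨fun _ => le_maximalIdeal hJ, fun _ => hgK.2⟩

theorem isAffineOpen_of_isCompact {X : Scheme.{u}} [IsAffine X]
    (hX : ∀ x : X, IsNoetherianRing (X.presheaf.stalk x) ∧ ringKrullDim (X.presheaf.stalk x) ≤ 1)
    (U : X.Opens) (hU : IsCompact (U : Set X)) : IsAffineOpen U := by
  classical
  have hsel : ∀ y ∈ U, ∃ f : Γ(X, ⊤), y ∈ X.basicOpen f ∧ X.basicOpen f ≤ U := by
    intro y hy
    obtain ⟨_, ⟨_, ⟨f, rfl⟩, rfl⟩, hyf, hle⟩ :=
      (isBasis_basicOpen X).exists_subset_of_mem_open (show y ∈ (U : Set X) from hy) U.2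
    exact ⟨f, hyf, hle⟩
  choose fy hfy hfyU using hsel
  obtain ⟨T, hT⟩ := hU.elim_finite_subcover (fun y : U => (X.basicOpen (fy y.1 y.2) : Set X))
    (fun y => (X.basicOpen _).2) fun y hy => Set.mem_iUnion.2 ⟨⟨y, hy⟩, hfy y hy⟩
  let F : Finset Γ(X, ⊤) := T.image fun y => fy y.1 y.2
  have hmemU : ∀ y, y ∈ U ↔ ∃ f ∈ F, y ∈ X.basicOpen f := by
    refine fun y => ⟨fun hy => ?_, fun ⟨f, hf, hyf⟩ => ?_⟩
    · obtain ⟨z, hz, hyz⟩ := Set.mem_iUnion₂.1 (hT hy)
      exact ⟨_, Finset.mem_image.2 ⟨z, hz, rfl⟩, hyz⟩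
    · obtain ⟨z, hz, rfl⟩ := Finset.mem_image.1 hf
      exact hfyU _ _ hyf
  have hloc : ∀ x : X, ∃ h : Γ(X, ⊤), x ∈ X.basicOpen h ∧ IsAffineOpen (U ⊓ X.basicOpen h) := by
    intro x
    have := (hX x).1
    let := X.presheaf.algebra_section_stalk (U := ⊤) ⟨x, trivial⟩
    have := (isAffineOpen_top X).isLocalization_stalk ⟨x, trivial⟩
    let p := ((isAffineOpen_top X).primeIdealOf ⟨x, trivial⟩).asIdeal
    let I : Ideal Γ(X, ⊤) := Ideal.span F
    obtain ⟨g, hg⟩ := exists_radical_eq_span (hX x).2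
      (I.map (algebraMap Γ(X, ⊤) (X.presheaf.stalk x)))
    obtain ⟨a, s, rfl⟩ := IsLocalization.exists_mk'_eq p.primeCompl g
    have hsp : Ideal.span {IsLocalization.mk' (X.presheaf.stalk x) a s} =
        Ideal.span {algebraMap Γ(X, ⊤) (X.presheaf.stalk x) a} := by
      rw [← IsLocalization.mk'_spec (X.presheaf.stalk x) a s, mul_comm,
        Ideal.span_singleton_mul_left_unit (IsLocalization.map_units _ s)]
    rw [hsp] at hg
    have hfwd : ∀ f ∈ F, ∃ (t : p.primeCompl) (m : ℕ), (t : Γ(X, ⊤)) * f ^ m ∈ Ideal.span {a} := by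
      intro f hf
      have hmem : algebraMap Γ(X, ⊤) (X.presheaf.stalk x) f ∈
          (Ideal.span {algebraMap Γ(X, ⊤) (X.presheaf.stalk x) a}).radical :=
        hg ▸ Ideal.le_radical (Ideal.mem_map_of_mem _ (Ideal.subset_span hf))
      obtain ⟨m, hm⟩ := hmem
      rw [← Set.image_singleton, ← Ideal.map_span, ← map_pow,
        IsLocalization.algebraMap_mem_map_algebraMap_iff p.primeCompl] at hm
      obtain ⟨t, ht, htm⟩ := hm
      exact ⟨⟨t, ht⟩, m, htm⟩
    obtain ⟨n, hn⟩ : algebraMap Γ(X, ⊤) (X.presheaf.stalk x) a ∈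
        (I.map (algebraMap Γ(X, ⊤) (X.presheaf.stalk x))).radical :=
      hg ▸ Ideal.le_radical (Ideal.mem_span_singleton_self _)
    rw [← map_pow, IsLocalization.algebraMap_mem_map_algebraMap_iff p.primeCompl] at hn
    obtain ⟨t₀, ht₀, htn⟩ := hn
    choose t m htm using hfwd
    let h : Γ(X, ⊤) := t₀ * ∏ f ∈ F.attach, (t f.1 f.2 : Γ(X, ⊤))
    have hh : h ∈ p.primeCompl :=
      p.primeCompl.mul_mem ht₀ (p.primeCompl.prod_mem fun f _ => (t f.1 f.2).2)
    have hxh : x ∈ X.basicOpen h := by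
      rw [X.mem_basicOpen h x trivial]
      exact IsLocalization.map_units (M := p.primeCompl) (X.presheaf.stalk x) ⟨h, hh⟩
    refine ⟨h, hxh, ?_⟩
    suffices U ⊓ X.basicOpen h = X.basicOpen (a * h) from this ▸ (isAffineOpen_top X).basicOpen _
    ext y
    simp only [Scheme.basicOpen_mul, SetLike.mem_coe, Opens.mem_inf]
    refine ⟨fun ⟨hy, hyh⟩ => ⟨?_, hyh⟩, fun ⟨hya, hyh⟩ => ⟨?_, hyh⟩⟩
    · obtain ⟨f, hf, hyf⟩ := (hmemU y).1 hy
      obtain ⟨c, hc⟩ := Ideal.mem_span_singleton.1 (htm f hf)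
      rw [X.mem_basicOpen (U := ⊤) _ y trivial] at hyh hyf ⊢
      have hyt : IsUnit (X.presheaf.germ ⊤ y trivial (t f hf : Γ(X, ⊤))) :=
        isUnit_of_dvd_unit (map_dvd (X.presheaf.germ ⊤ y trivial).hom
          (dvd_mul_of_dvd_right (Finset.dvd_prod_of_mem
            (fun f : {z // z ∈ F} => (t f.1 f.2 : Γ(X, ⊤))) (Finset.mem_attach _ ⟨f, hf⟩)) t₀)) hyh
      have := hyt.mul (hyf.pow (m f hf))
      rw [← map_pow, ← map_mul, hc, map_mul] at this
      exact isUnit_of_mul_isUnit_left this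
    · refine (hmemU y).2 ?_
      by_contra! hne
      rw [X.mem_basicOpen (U := ⊤) _ y trivial] at hyh hya
      have hI : I ≤ (IsLocalRing.maximalIdeal (X.presheaf.stalk y)).comap
          (X.presheaf.germ ⊤ y trivial).hom := Ideal.span_le.2 fun f hf => by
        have := hne f hf
        rw [X.mem_basicOpen (U := ⊤) _ y trivial] at this
        exact this
      have hu : IsUnit (X.presheaf.germ ⊤ y trivial (t₀ * a ^ n)) := by
        rw [map_mul, map_pow]
        exact (isUnit_of_dvd_unit (map_dvd (X.presheaf.germ ⊤ y trivial).hom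
          (dvd_mul_right t₀ _)) hyh).mul (hya.pow n)
      exact (IsLocalRing.mem_maximalIdeal _).1 (hI htn) hu
  choose h hxh haff using hloc
  refine isAffineOpen_of_isAffineOpen_basicOpen U
    (X.presheaf.map (homOfLE (le_top : U ≤ ⊤)).op '' Set.range h) ?_ ?_
  · rw [← Ideal.map_span (X.presheaf.map (homOfLE (le_top : U ≤ ⊤)).op).hom]
    have : Ideal.span (Set.range h) = ⊤ := by
      rw [← (isAffineOpen_top X).iSup_basicOpen_eq_self_iff, eq_top_iff]
      exact fun y _ => Opens.mem_iSup.2 ⟨⟨h y, y, rfl⟩, hxh y⟩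
    rw [this, Ideal.map_top]
  · rintro _ ⟨_, ⟨x, rfl⟩, rfl⟩
    rw [Scheme.basicOpen_res]
    exact haff x

end Groth.Agent.DimOne18
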