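import Mathlib.RingTheory.Ideal.Height
import Mathlib.RingTheory.Nilpotent.Lemmas
import Mathlib.RingTheory.Localization.Away.Basic
import Mathlib.RingTheory.LocalRing.ResidueField.Ideal
import Mathlib.RingTheory.Regular.RegularSequence
import Mathlib.RingTheory.Ideal.MinimalPrime.Noetherian
import Mathlib.RingTheory.KrullDimension.Zero
import Mathlib.RingTheory.LocalProperties.Reduced
import Mathlib.Algebra.Group.Pi.Units
import Groth.Prelude.Def_CAlg

/-!
# Noetherian local rings of dimension one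
-/

universe u

namespace Groth.Agent.DimOne18

open IsLocalRing

variable {A : Type u} [CommRing A] [IsLocalRing A]

theorem prime_cases (hdim : ringKrullDim A ≤ 1) (p : Ideal A) [hp : p.IsPrime] :
    p ∈ minimalPrimes A ∨ p = maximalIdeal A := by
  by_contra! h
  obtain ⟨q, hq, hqp⟩ := Ideal.exists_minimalPrimes_le (I := (⊥ : Ideal A)) (J := p) bot_le
  have : q.IsPrime := hq.1.1
  have hlt : q < p := lt_of_le_of_ne hqp fun e => h.1 (e ▸ hq)
  have hlt' : p < maximalIdeal A := lt_of_le_of_ne (le_maximalIdeal hp.ne_top) h.2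
  let s : LTSeries (PrimeSpectrum A) :=
    ((RelSeries.singleton _ ⟨q, inferInstance⟩).snoc ⟨p, hp⟩ hlt).snoc
      ⟨maximalIdeal A, inferInstance⟩ (by simpa using! hlt')
  have h2 : ((2 : ℕ) : WithBot ℕ∞) ≤ 1 := (Order.LTSeries.length_le_krullDim s).trans hdim
  exact absurd h2 (by decide)

theorem maximalIdeal_notMem (hdim : ringKrullDim A = 1) : maximalIdeal A ∉ minimalPrimes A := by
  intro h
  have h2 := IsLocalRing.maximalIdeal_height_eq_ringKrullDim (R := A)
  rw [hdim, Ideal.height_eq_zero_iff.2 h] at h2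
  exact absurd h2 (by decide)

theorem exists_notMem_minimal [IsNoetherianRing A] (hdim : ringKrullDim A = 1) :
    ∃ f ∈ maximalIdeal A, ∀ p ∈ minimalPrimes A, f ∉ p := by
  classical
  have hfin := minimalPrimes.finite_of_isNoetherianRing A
  by_contra! h
  have hsub : (maximalIdeal A : Set A) ⊆ ⋃ p ∈ (hfin.toFinset : Set (Ideal A)), (p : Set A) := by
    intro f hf
    obtain ⟨p, hp, hfp⟩ := h f hf
    exact Set.mem_biUnion (by simpa using hp) hfp
  obtain ⟨p, hp, hle⟩ := (Ideal.subset_union_prime ⊥ ⊥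
    (fun p hp _ _ => (hfin.mem_toFinset.1 hp).1.1)).1 hsub
  rw [hfin.mem_toFinset] at hp
  exact maximalIdeal_notMem hdim
    (le_antisymm hle (le_maximalIdeal hp.1.1.ne_top) ▸ hp)

theorem radical_eq_iff (hdim : ringKrullDim A = 1) {f : A} (hf : f ∈ maximalIdeal A) :
    maximalIdeal A = (Ideal.span {f}).radical ↔ ∀ p ∈ minimalPrimes A, f ∉ p := by
  constructor
  · intro h p hp hfp
    have : p.IsPrime := hp.1.1
    refine maximalIdeal_notMem hdim (le_antisymm ?_ (le_maximalIdeal hp.1.1.ne_top) ▸ hp)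
    rw [h]; exact (Ideal.IsPrime.radical_le_iff hp.1.1).2 ((Ideal.span_singleton_le_iff_mem _).2 hfp)
  · intro h
    refine le_antisymm ?_ ((Ideal.IsPrime.radical_le_iff inferInstance).2
      ((Ideal.span_singleton_le_iff_mem _).2 hf))
    rw [Ideal.radical_eq_sInf]
    refine le_sInf fun J hJ => ?_
    have := hJ.2
    rcases prime_cases hdim.le J with hJm | hJm
    · exact absurd (hJ.1 (Ideal.mem_span_singleton_self f)) (h J hJm)
    · exact hJm.ge

theorem exists_pow_mem (hdim : ringKrullDim A = 1) {g x : A} (hg : ∀ p ∈ minimalPrimes A, g ∉ p)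
    (hgm : g ∈ maximalIdeal A) (hx : x ∈ maximalIdeal A) :
    ∃ n : ℕ, g ∣ x ^ n := by
  rw [(radical_eq_iff hdim hgm).2 hg] at hx
  obtain ⟨n, hn⟩ := hx
  exact ⟨n, Ideal.mem_span_singleton.1 hn⟩

variable [IsNoetherianRing A]

theorem exists_regular (hdim : ringKrullDim A = 1) (h : LocCoh.depth A A = 1 ∨ IsReduced A) :
    ∃ g ∈ maximalIdeal A, g ∈ nonZeroDivisors A := by
  rcases h with h | h
  · by_contra! hne
    have : LocCoh.depth A A ≤ 0 := by
      rw [LocCoh.depth, LocCoh.idealDepth, if_neg ?_]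
      · refine iSup₂_le fun rs hrs => ?_
        match rs, hrs with
        | [], _ => simp
        | r :: rs, hrs =>
          refine absurd ?_ (hne r (hrs.2 r List.mem_cons_self))
          have := ((RingTheory.Sequence.isWeaklyRegular_cons_iff A r rs).1 hrs.1).1
          exact mem_nonZeroDivisors_iff_right.2 fun x hx => this (show r • x = r • (0 : A) by
            rw [smul_zero, smul_eq_mul, mul_comm, hx])
      · rw [Ideal.smul_top_eq_map, Algebra.algebraMap_self, Ideal.map_id]
        exact fun e => Ideal.IsPrime.ne_top (inferInstance : (maximalIdeal A).IsPrime)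
          (SetLike.ext' (by simpa using congrArg (fun N : Submodule A A => (N : Set A)) e))
    rw [h] at this
    exact absurd this (by decide)
  · obtain ⟨f, hf, hfp⟩ := exists_notMem_minimal hdim
    refine ⟨f, hf, mem_nonZeroDivisors_iff_right.2 fun x hx => ?_⟩
    refine (mem_nilradical.1 ?_ : IsNilpotent x).eq_zero
    rw [nilradical, ← Ideal.sInf_minimalPrimes, Submodule.mem_sInf]
    intro (p : Ideal A) hp
    exact (hp.1.1.mem_or_mem (hx ▸ p.zero_mem)).resolve_right (hfp p hp)

theorem notMem_minimal_of_regular {f : A} (hf : f ∈ nonZeroDivisors A) :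
    ∀ p ∈ minimalPrimes A, f ∉ p := fun _ hp h =>
  Set.disjoint_left.1 (Ideal.disjoint_nonZeroDivisors_of_mem_minimalPrimes hp) h hf

theorem regular_of_notMem (hdim : ringKrullDim A = 1) (h : LocCoh.depth A A = 1 ∨ IsReduced A)
    {f : A} (hfm : f ∈ maximalIdeal A) (hf : ∀ p ∈ minimalPrimes A, f ∉ p) :
    f ∈ nonZeroDivisors A := by
  obtain ⟨g, hgm, hg⟩ := exists_regular hdim h
  obtain ⟨n, c, hn⟩ := exists_pow_mem hdim hf hfm hgm
  have : f * c ∈ nonZeroDivisors A := hn ▸ pow_mem hg n
  exact (mul_mem_nonZeroDivisors.1 this).1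

theorem isLocalization_nzd (hdim : ringKrullDim A = 1) (h : LocCoh.depth A A = 1 ∨ IsReduced A)
    {f : A} (hfm : f ∈ maximalIdeal A) (hf : ∀ p ∈ minimalPrimes A, f ∉ p) :
    IsLocalization (nonZeroDivisors A) (Localization.Away f) := by
  refine IsLocalization.of_le (Submonoid.powers f) _
    (Submonoid.powers_le.2 (regular_of_notMem hdim h hfm hf)) fun g hg => ?_
  by_cases hgu : IsUnit g
  · exact hgu.map _
  obtain ⟨n, hn⟩ := exists_pow_mem hdim (notMem_minimal_of_regular hg)
    ((IsLocalRing.mem_maximalIdeal g).2 hgu) hfm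
  exact isUnit_of_dvd_unit (map_dvd _ hn)
    (by rw [map_pow]; exact (IsLocalization.Away.algebraMap_isUnit f).pow n)

theorem notMem_of_isLocalization_nzd {f : A}
    (h : IsLocalization (nonZeroDivisors A) (Localization.Away f)) :
    ∀ p ∈ minimalPrimes A, f ∉ p := by
  refine notMem_minimal_of_regular (mem_nonZeroDivisors_iff_right.2 fun x hx => ?_)
  have hinj : Function.Injective (algebraMap A (Localization.Away f)) :=
    IsLocalization.injective _ (le_refl (nonZeroDivisors A))
  refine hinj ?_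
  rw [map_zero]
  refine (IsLocalization.Away.algebraMap_isUnit (S := Localization.Away f) f).mul_left_eq_zero.1 ?_
  rw [← map_mul, hx, map_zero]

theorem notMem_of_algEquiv {f : A} {S : PrimeSpectrum A → Type u}
    [∀ p, CommRing (S p)] [∀ p, Algebra A (S p)] [∀ p, Nontrivial (S p)]
    (hker : ∀ (p : PrimeSpectrum A), ∀ x ∈ p.asIdeal, ¬ IsUnit (algebraMap A (S p) x))
    (e : Localization.Away f ≃ₐ[A] (∀ p : {p : PrimeSpectrum A // p.asIdeal ∈ minimalPrimes A}, S p.1)) :
    ∀ p ∈ minimalPrimes A, f ∉ p := by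
  intro p hp hfp
  have h1 := (IsLocalization.Away.algebraMap_isUnit (S := Localization.Away f) f).map e
  rw [e.commutes] at h1
  exact hker ⟨p, hp.1.1⟩ f hfp (h1.map (Pi.evalRingHom
    (fun p : {p : PrimeSpectrum A // p.asIdeal ∈ minimalPrimes A} => S p.1) ⟨⟨p, hp.1.1⟩, hp⟩))

theorem nonempty_pi_equiv (hdim : ringKrullDim A = 1) {f : A} (hfm : f ∈ maximalIdeal A)
    (hf : ∀ p ∈ minimalPrimes A, f ∉ p) :
    Nonempty (Localization.Away f ≃ₐ[A] (∀ p : {p : PrimeSpectrum A // p.asIdeal ∈ minimalPrimes A},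
      Localization.AtPrime p.1.asIdeal)) := by
  classical
  let I := {p : PrimeSpectrum A // p.asIdeal ∈ minimalPrimes A}
  have : Finite I := by
    have := (minimalPrimes.finite_of_isNoetherianRing A).to_subtype
    refine Finite.of_injective (fun p : I => (⟨p.1.asIdeal, p.2⟩ : minimalPrimes A)) fun a b h => ?_
    exact Subtype.ext (PrimeSpectrum.ext (congrArg Subtype.val h))
  have := Fintype.ofFinite I
  let φ : Localization.Away f →ₐ[A] (∀ p : I, Localization.AtPrime p.1.asIdeal) :=
    IsLocalization.liftAlgHom (M := Submonoid.powers f) (f := Algebra.ofId A _) (by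
      rintro ⟨_, n, rfl⟩
      refine Pi.isUnit_iff.2 fun p => ?_
      exact IsLocalization.map_units (M := p.1.asIdeal.primeCompl) _
        ⟨f ^ n, p.1.asIdeal.primeCompl.pow_mem (hf _ p.2) n⟩)
  have hφ : ∀ (a : A) (p : I), φ (algebraMap A _ a) p = algebraMap A _ a := fun a p => by
    rw [φ.commutes]; rfl
  have hunit : ∀ x : A, (∀ p : I, x ∉ p.1.asIdeal) → IsUnit (algebraMap A (Localization.Away f) x) := by
    intro x hx
    by_cases hxu : IsUnit x
    · exact hxu.map _
    obtain ⟨n, hn⟩ := exists_pow_mem hdim (fun p hp => hx ⟨⟨p, hp.1.1⟩, hp⟩)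
      ((IsLocalRing.mem_maximalIdeal x).2 hxu) hfm
    exact isUnit_of_dvd_unit (map_dvd _ hn)
      (by rw [map_pow]; exact (IsLocalization.Away.algebraMap_isUnit f).pow n)
  have hinj : Function.Injective φ := by
    refine (injective_iff_map_eq_zero φ).2 fun z hz => ?_
    obtain ⟨x, m, rfl⟩ := IsLocalization.exists_mk'_eq (Submonoid.powers f) z
    have h0 : ∀ p : I, ∃ t ∉ p.1.asIdeal, t * x = 0 := fun p => by
      have h1 : algebraMap A (Localization.AtPrime p.1.asIdeal) x = 0 := by
        rw [← hφ, ← IsLocalization.mk'_spec (M := Submonoid.powers f) _ x m, map_mul, hz,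
          zero_mul]; rfl
      obtain ⟨t, ht⟩ := (IsLocalization.map_eq_zero_iff p.1.asIdeal.primeCompl _ _).1 h1
      exact ⟨t, t.2, ht⟩
    obtain ⟨p₀, hp₀, -⟩ := Ideal.exists_minimalPrimes_le (I := (⊥ : Ideal A))
      (J := IsLocalRing.maximalIdeal A) bot_le
    have : Nonempty I := ⟨⟨⟨p₀, hp₀.1.1⟩, hp₀⟩⟩
    let J : Ideal A := LinearMap.ker (LinearMap.toSpanSingleton A A x)
    have hJ : ∀ t, t ∈ J ↔ t * x = 0 := fun t => by simp [J]
    obtain ⟨t, htJ, ht⟩ : ∃ t ∈ J, ∀ p : I, t ∉ p.1.asIdeal := by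
      by_contra! h
      have hsub : (J : Set A) ⊆ ⋃ p ∈ ((Finset.univ : Finset I) : Set I), (p.1.asIdeal : Set A) := by
        intro t ht
        obtain ⟨p, hp⟩ := h t ht
        exact Set.mem_biUnion (Finset.mem_coe.2 (Finset.mem_univ p)) hp
      obtain ⟨p, -, hle⟩ :=
        (Ideal.subset_union_prime (f := fun p : I => p.1.asIdeal) (Classical.arbitrary I) (Classical.arbitrary I)
          (fun p _ _ _ => p.1.isPrime)).1 hsub
      obtain ⟨t, ht, htx⟩ := h0 p
      exact ht (hle ((hJ t).2 htx))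
    have hx0 : algebraMap A (Localization.Away f) x = 0 :=
      (hunit t ht).mul_right_eq_zero.1 (by rw [← map_mul, (hJ t).1 htJ, map_zero])
    rw [IsLocalization.mk'_eq_mul_mk'_one, hx0, zero_mul]
  have hsel : ∀ p : I, ∃ e ∉ p.1.asIdeal, ∀ q : I, q ≠ p → e ∈ q.1.asIdeal := by
    intro p
    have : ∀ q : I, q ≠ p → ∃ c ∈ q.1.asIdeal, c ∉ p.1.asIdeal := fun q hq =>
      SetLike.not_le_iff_exists.mp fun hle => hq (Subtype.ext (PrimeSpectrum.ext
        (le_antisymm hle (p.2.2 ⟨q.1.isPrime, bot_le⟩ hle))))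
    choose c hc hcp using this
    refine ⟨∏ q : I, if h : q = p then 1 else c q h,
      fun h => ?_, fun q hq => Ideal.mem_of_dvd _ (Finset.dvd_prod_of_mem _ (Finset.mem_univ q))
        (by rw [dif_neg hq]; exact hc q hq)⟩
    obtain ⟨q, -, hq⟩ := p.1.isPrime.prod_mem_iff.1 h
    split_ifs at hq with hqp
    · exact p.1.isPrime.ne_top ((Ideal.eq_top_iff_one _).2 hq)
    · exact hcp q hqp hq
  choose e hep heq using hsel
  have hnil : ∀ (q : I) (x : A), x ∈ q.1.asIdeal →
      IsNilpotent (algebraMap A (Localization.AtPrime q.1.asIdeal) x) := by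
    intro q x hx
    have := Ring.KrullDimLE.of_isLocalization q.1.asIdeal q.2 (Localization.AtPrime q.1.asIdeal)
    refine Ring.KrullDimLE.isNilpotent_iff_mem_maximalIdeal.2 ?_
    exact (IsLocalization.AtPrime.to_map_mem_maximal_iff (Localization.AtPrime q.1.asIdeal) q.1.asIdeal x).2 hx
  have hN : ∃ N : ℕ, 0 < N ∧ ∀ p q : I, q ≠ p →
      algebraMap A (Localization.AtPrime q.1.asIdeal) (e p) ^ N = 0 := by
    have : ∀ p q : I, ∃ N : ℕ, q ≠ p →
        algebraMap A (Localization.AtPrime q.1.asIdeal) (e p) ^ N = 0 := fun p q => by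
      by_cases h : q ≠ p
      · obtain ⟨N, hN⟩ := hnil q _ (heq p q h); exact ⟨N, fun _ => hN⟩
      · exact ⟨0, fun h' => absurd h' h⟩
    choose N hN using this
    exact ⟨(∑ p, ∑ q, N p q) + 1, Nat.succ_pos _, fun p q h => pow_eq_zero_of_le
      ((Finset.single_le_sum (fun q _ => Nat.zero_le _) (Finset.mem_univ q)).trans
        ((Finset.single_le_sum (f := fun p => ∑ q, N p q) (fun p _ => Nat.zero_le _)
          (Finset.mem_univ p)).trans (Nat.le_succ _))) (hN p q h)⟩
  obtain ⟨N, hNpos, hN⟩ := hN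
  have hsingle : ∀ (p : I) (a : A) (s : p.1.asIdeal.primeCompl), ∃ z, φ z =
      Pi.single p (IsLocalization.mk' (Localization.AtPrime p.1.asIdeal) a s) := by
    intro p a s
    let d : A := (s : A) * e p ^ N + ∑ q ∈ Finset.univ.erase p, e q ^ N
    have hd : ∀ r : I, d ∉ r.1.asIdeal := by
      intro r hr
      by_cases hrp : r = p
      · subst hrp
        have hsum : ∑ q ∈ Finset.univ.erase r, e q ^ N ∈ r.1.asIdeal := Ideal.sum_mem _ fun q hq =>
          Ideal.pow_mem_of_mem _ (heq q r (Finset.ne_of_mem_erase hq).symm) N hNpos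
        exact ((r.1.asIdeal.primeCompl).mul_mem s.2 (r.1.asIdeal.primeCompl.pow_mem (hep r) N))
          ((Submodule.add_mem_iff_left _ hsum).1 hr)
      · have h1 : (s : A) * e p ^ N ∈ r.1.asIdeal :=
          Ideal.mul_mem_left _ _ (Ideal.pow_mem_of_mem _ (heq p r hrp) N hNpos)
        have h2 := (Submodule.add_mem_iff_right _ h1).1 hr
        rw [← Finset.add_sum_erase _ _ (Finset.mem_erase.2 ⟨hrp, Finset.mem_univ r⟩)] at h2
        refine r.1.asIdeal.primeCompl.pow_mem (hep r) N ((Submodule.add_mem_iff_left _ ?_).1 h2)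
        exact Ideal.sum_mem _ fun q hq =>
          Ideal.pow_mem_of_mem _ (heq q r (Finset.ne_of_mem_erase hq).symm) N hNpos
    obtain ⟨di, hdi⟩ := isUnit_iff_exists_inv.1 (hunit d hd)
    refine ⟨algebraMap A _ (a * e p ^ N) * di, funext fun r => ?_⟩
    have hdir : algebraMap A (Localization.AtPrime r.1.asIdeal) d * φ di r = 1 := by
      rw [← hφ, ← Pi.mul_apply, ← map_mul, hdi, map_one]; rfl
    rw [map_mul, Pi.mul_apply, hφ]
    by_cases hrp : r = p
    · subst hrp
      rw [Pi.single_eq_same, IsLocalization.eq_mk'_iff_mul_eq]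
      have hdr : algebraMap A (Localization.AtPrime r.1.asIdeal) d =
          algebraMap A _ (s : A) * algebraMap A _ (e r) ^ N := by
        simp only [d, map_add, map_mul, map_pow, map_sum]
        rw [Finset.sum_eq_zero fun q hq => hN q r (Finset.ne_of_mem_erase hq).symm, add_zero]
      rw [hdr] at hdir
      rw [map_mul, map_pow]
      calc _ = algebraMap A (Localization.AtPrime r.1.asIdeal) a *
            (algebraMap A _ (s : A) * algebraMap A _ (e r) ^ N * φ di r) := by ring
        _ = _ := by rw [hdir, mul_one]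
    · rw [Pi.single_eq_of_ne hrp, map_mul, map_pow, hN p r hrp, mul_zero, zero_mul]
  refine ⟨AlgEquiv.ofBijective φ ⟨hinj, fun y => ?_⟩⟩
  have : y ∈ φ.range := by
    rw [← Finset.univ_sum_single y]
    refine φ.range.sum_mem fun p _ => ?_
    obtain ⟨a, s, h⟩ := IsLocalization.exists_mk'_eq p.1.asIdeal.primeCompl (y p)
    obtain ⟨z, hz⟩ := hsingle p a s
    exact ⟨z, hz.trans (by rw [h])⟩
  exact this

theorem nonempty_residue_equiv (hdim : ringKrullDim A = 1) [IsReduced A] {f : A}
    (hfm : f ∈ maximalIdeal A) (hf : ∀ p ∈ minimalPrimes A, f ∉ p) :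
    Nonempty (Localization.Away f ≃ₐ[A] (∀ p : {p : PrimeSpectrum A // p.asIdeal ∈ minimalPrimes A},
      p.1.asIdeal.ResidueField)) := by
  obtain ⟨e⟩ := nonempty_pi_equiv hdim hfm hf
  refine ⟨e.trans (AlgEquiv.piCongrRight fun p => AlgEquiv.ofBijective
    (IsScalarTower.toAlgHom A (Localization.AtPrime p.1.asIdeal) p.1.asIdeal.ResidueField)
    ⟨?_, IsLocalRing.residue_surjective⟩)⟩
  refine (injective_iff_map_eq_zero _).2 fun z hz => ?_
  have := Ring.KrullDimLE.of_isLocalization p.1.asIdeal p.2 (Localization.AtPrime p.1.asIdeal)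
  exact (Ring.KrullDimLE.isNilpotent_iff_mem_maximalIdeal.2
    ((IsLocalRing.residue_eq_zero_iff z).1 hz)).eq_zero

end Groth.Agent.DimOne18
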